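import Mathlib

/-!
Invertible modules through ideals comaximal with a fixed ideal.
-/

set_option autoImplicit false
set_option linter.all false
set_option backward.isDefEq.respectTransparency.types false

universe u

namespace Groth.Agent.PicLaurentLib

open TensorProduct Polynomial

section general

variable {A : Type u} [CommRing A] {P : Type u} [AddCommGroup P] [Module A P] [Module.Invertible A P]

theorem exists_dual_notMem (𝔪 : Ideal A) (h𝔪 : 𝔪 ≠ ⊤) :
    ∃ (f : P →ₗ[A] A) (p : P), f p ∉ 𝔪 := by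
  by_contra h
  push Not at h
  refine h𝔪 ((Ideal.eq_top_iff_one _).2 ?_)
  obtain ⟨z, hz⟩ := (Module.Invertible.bijective (R := A) (M := P)).2 1
  rw [← hz]
  clear hz
  induction z using TensorProduct.induction_on with
  | zero => simp
  | tmul f p => exact h f p
  | add x y hx hy => rw [map_add]; exact add_mem hx hy

theorem injective_of_regular (f : P →ₗ[A] A) (p₀ : P) (hg : f p₀ ∈ nonZeroDivisors A) :
    Function.Injective f := by
  rw [injective_iff_map_eq_zero]
  intro x hx
  -- the endomorphism `y ↦ f y • x` is a scalar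
  obtain ⟨c, hc⟩ := (Module.Invertible.toModuleEnd_bijective A P).2 (LinearMap.smulRight f x)
  have h1 := LinearMap.congr_fun hc p₀
  simp only [Module.toModuleEnd_apply, DistribSMul.toLinearMap_apply, LinearMap.smulRight_apply] at h1
  have hc0 : c = 0 := by
    have h2 := congrArg f h1
    rw [map_smul, map_smul, hx, smul_zero, smul_eq_mul] at h2
    exact (mem_nonZeroDivisors_iff.1 hg).2 c h2
  rw [hc0, zero_smul] at h1
  rw [← Module.forall_dual_apply_eq_zero_iff A]
  intro h
  have h3 := congrArg h h1.symm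
  rw [map_smul, map_zero, smul_eq_mul] at h3
  exact (mem_nonZeroDivisors_iff.1 hg).1 _ h3

theorem range_mul_span (f : P →ₗ[A] A) (p₀ : P) (hg : f p₀ ∈ nonZeroDivisors A) :
    (LinearMap.range f : Ideal A) *
      LinearMap.range (Module.Dual.eval A P p₀) = Ideal.span {f p₀} := by
  have hinj := injective_of_regular f p₀ hg
  refine le_antisymm (Ideal.mul_le.2 ?_) ?_
  · rintro _ ⟨z, rfl⟩ _ ⟨h, rfl⟩
    have : f z • p₀ = f p₀ • z := hinj (by simp [mul_comm])
    have h1 := congrArg h this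
    simp only [map_smul, smul_eq_mul] at h1
    exact Ideal.mem_span_singleton'.2 ⟨h z, by
      show h z * f p₀ = f z * h p₀
      rw [h1, mul_comm]⟩
  · rw [Ideal.span_singleton_le_iff_mem]
    obtain ⟨z, hz⟩ := (Module.Invertible.bijective (R := A) (M := P)).2 1
    have : ∀ w, f p₀ * contractLeft A P w ∈ (LinearMap.range f : Ideal A) *
        LinearMap.range (Module.Dual.eval A P p₀) := by
      intro w
      induction w using TensorProduct.induction_on with
      | zero => simp
      | add x y hx hy => rw [map_add, mul_add]; exact add_mem hx hy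
      | tmul h p =>
        have h1 : f p • p₀ = f p₀ • p := hinj (by simp [mul_comm])
        have h2 := congrArg h h1
        simp only [map_smul, smul_eq_mul] at h2
        rw [contractLeft_apply, ← h2]
        exact Ideal.mul_mem_mul ⟨p, rfl⟩ ⟨h, rfl⟩
    simpa [hz] using this z

end general

theorem invertible_ideal {A : Type u} [CommRing A] (I I' : Ideal A) (g : A)
    (hg : g ∈ nonZeroDivisors A) (h : I * I' = Ideal.span {g}) : Module.Invertible A I := by
  classical
  have hdiv : ∀ (a : I) (b : I'), ∃ c : A, c * g = a * b := fun a b =>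
    Ideal.mem_span_singleton'.1 (h ▸ Ideal.mul_mem_mul a.2 b.2)
  choose c hc using hdiv
  have hcan : ∀ x y : A, x * g = y * g → x = y := fun x y hxy =>
    (mul_cancel_right_mem_nonZeroDivisors hg).1 hxy
  let bil : I →ₗ[A] I' →ₗ[A] A := LinearMap.mk₂ A c
    (fun a a' b => hcan _ _ (by rw [add_mul, hc, hc, hc, Submodule.coe_add]; ring))
    (fun r a b => hcan _ _ (by rw [smul_eq_mul, mul_assoc, hc, hc, SetLike.val_smul, smul_eq_mul]; ring))
    (fun a b b' => hcan _ _ (by rw [add_mul, hc, hc, hc, Submodule.coe_add]; ring))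
    (fun r a b => hcan _ _ (by rw [smul_eq_mul, mul_assoc, hc, hc, SetLike.val_smul, smul_eq_mul]; ring))
  let e₁ : I ⊗[A] I' →ₗ[A] A := TensorProduct.lift bil
  have he₁ : ∀ (a : I) (b : I'), e₁ (a ⊗ₜ b) = c a b := fun a b => rfl
  obtain ⟨n, x, hx⟩ : ∃ (n : ℕ) (x : Fin n → I × I'), ∑ i, ((x i).1 : A) * (x i).2 = g := by
    have hgI : g ∈ I * I' := h ▸ Ideal.mem_span_singleton_self g
    refine Submodule.mul_induction_on hgI (fun a ha b hb => ⟨1, fun _ => (⟨a, ha⟩, ⟨b, hb⟩), by simp⟩) ?_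
    rintro s t ⟨n, x, hx⟩ ⟨m, y, hy⟩
    exact ⟨n + m, Fin.append x y, by rw [Fin.sum_univ_add]; simp [hx, hy]⟩
  let T : I ⊗[A] I' := ∑ i, (x i).1 ⊗ₜ (x i).2
  let e₂ : A →ₗ[A] I ⊗[A] I' := LinearMap.toSpanSingleton A _ T
  have hT : e₁ T = 1 := hcan _ _ (by
    simp only [T, map_sum, he₁, Finset.sum_mul, hc, hx, one_mul])
  refine .left (LinearEquiv.ofLinear e₁ e₂ (LinearMap.ext_ring ?_) (TensorProduct.ext' fun a b => ?_))
  · simp [e₂, hT]
  · show c a b • T = a ⊗ₜ b
    simp only [T, Finset.smul_sum, smul_tmul']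
    have h1 : ∀ i, c a b • (x i).1 = c (x i).1 b • a := fun i => Subtype.ext (hcan _ _ (by
      simp only [SetLike.val_smul, smul_eq_mul]
      rw [mul_right_comm, hc, mul_right_comm (c (x i).1 b), hc]; ring))
    simp only [h1, smul_tmul, ← tmul_sum]
    congr 1
    refine Subtype.ext (hcan _ _ ?_)
    simp only [Submodule.coe_sum, SetLike.val_smul, smul_eq_mul, Finset.sum_mul]
    conv_rhs => rw [← hx, Finset.mul_sum]
    refine Finset.sum_congr rfl fun i _ => ?_
    rw [mul_right_comm, hc]; ring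

theorem mem_nonZeroDivisors_of_isUnit_coeff {R : Type u} [CommRing R] (f : R[X]) (i : ℕ)
    (h : IsUnit (f.coeff i)) : f ∈ nonZeroDivisors R[X] := by
  by_contra hf
  obtain ⟨a, ha, hav⟩ := Polynomial.notMem_nonZeroDivisors_iff.1 hf
  have h1 := congrArg (fun p => Polynomial.coeff p i) hav
  simp only [coeff_smul, smul_eq_mul, coeff_zero] at h1
  exact ha (h.mul_left_eq_zero.1 h1)

/-- Data of a map `A → S` with a bijection of ideals comaximal with `mA`. -/
structure Corr {A S : Type u} [CommRing A] [CommRing S] (φ : A →+* S) (mA : Ideal A) (mS : Ideal S) :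
    Prop where
  max : mS.IsMaximal
  map_le : mA.map φ ≤ mS
  up : ∀ I : Ideal A, I ⊔ mA = ⊤ → (I.map φ).comap φ = I
  down : ∀ J : Ideal S, J ⊔ mS = ⊤ → (J.comap φ).map φ = J ∧ J.comap φ ⊔ mA = ⊤
  princ : ∀ h : S, h ∉ mS → ∃ q : A, q - 1 ∈ mA ∧ Ideal.span {h} = Ideal.span {φ q}
  regA : ∀ q : A, q - 1 ∈ mA → q ∈ nonZeroDivisors A
  regS : ∀ q : A, q - 1 ∈ mA → φ q ∈ nonZeroDivisors S

theorem Corr.sup_top {A : Type u} [CommRing A] {I mA : Ideal A} {q : A} (hq : q - 1 ∈ mA)
    (hqI : q ∈ I) : I ⊔ mA = ⊤ := by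
  rw [Ideal.eq_top_iff_one, show (1 : A) = q + -(q - 1) by ring]
  exact Submodule.add_mem_sup hqI (neg_mem hq)

variable {A S : Type u} [CommRing A] [CommRing S] [Algebra A S] {mA : Ideal A} {mS : Ideal S}

/-- Every invertible module over `S` comes from `A`. -/
theorem Corr.exists_model (C : Corr (algebraMap A S) mA mS) (P : Type u) [AddCommGroup P]
    [Module S P] [Module.Invertible S P] :
    ∃ (I : Ideal A), Module.Invertible A I ∧ Nonempty (S ⊗[A] I ≃ₗ[S] P) := by
  let φ := algebraMap A S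
  obtain ⟨f, p, hp⟩ := exists_dual_notMem (P := P) mS C.max.ne_top
  obtain ⟨q, hq, hqe⟩ := C.princ _ hp
  have hgJ : φ q ∈ (LinearMap.range f : Ideal S) :=
    ((Ideal.span_singleton_le_iff_mem _).1 (hqe.ge.trans
      ((Ideal.span_singleton_le_iff_mem _).2 ⟨p, rfl⟩)))
  obtain ⟨p₀, hp₀⟩ := hgJ
  have hg : f p₀ ∈ nonZeroDivisors S := hp₀ ▸ C.regS q hq
  have hinj := injective_of_regular f p₀ hg
  set J : Ideal S := LinearMap.range f
  set J' : Ideal S := LinearMap.range (Module.Dual.eval S P p₀)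
  have hJJ : J * J' = Ideal.span {φ q} := by rw [← hp₀]; exact range_mul_span f p₀ hg
  have hqm : φ q ∉ mS := fun h => hp ((Ideal.span_singleton_le_iff_mem _).1
    (hqe.le.trans ((Ideal.span_singleton_le_iff_mem _).2 h)))
  have hsup : ∀ K : Ideal S, φ q ∈ K → K ⊔ mS = ⊤ := fun K hK =>
    C.max.1.2 _ (lt_of_le_of_ne le_sup_right fun h => hqm (h ▸ Ideal.mem_sup_left hK))
  have hqJ : φ q ∈ J := ⟨p₀, hp₀⟩
  have hqJ' : φ q ∈ J' := ⟨f, hp₀⟩
  obtain ⟨hI1, hI2⟩ := C.down J (hsup J hqJ)
  obtain ⟨hI'1, hI'2⟩ := C.down J' (hsup J' hqJ')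
  let I := J.comap φ
  let I' := J'.comap φ
  have hII : I * I' = Ideal.span {q} := by
    have h1 : (I * I').map φ = (Ideal.span {q}).map φ := by
      rw [Ideal.map_mul, hI1, hI'1, hJJ, Ideal.map_span, Set.image_singleton]
    have h2 : I * I' ⊔ mA = ⊤ := Corr.sup_top (q := q * q)
      (by rw [show q * q - 1 = (q + 1) * (q - 1) by ring]; exact mA.mul_mem_left _ hq)
      (Ideal.mul_mem_mul hqJ hqJ')
    have h3 : Ideal.span {q} ⊔ mA = ⊤ := Corr.sup_top hq (Ideal.mem_span_singleton_self q)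
    rw [← C.up _ h2, h1, C.up _ h3]
  haveI : Module.Invertible A I := invertible_ideal I I' q (C.regA q hq) hII
  refine ⟨I, inferInstance, ?_⟩
  let μ : S ⊗[A] I →ₗ[S] S := LinearMap.liftBaseChange S ((Algebra.linearMap A S).comp I.subtype)
  have hμ : ∀ z, μ z ∈ J := fun z => by
    induction z using TensorProduct.induction_on with
    | zero => simp
    | tmul s a =>
      simp only [μ, LinearMap.liftBaseChange_tmul, LinearMap.comp_apply, Submodule.subtype_apply]
      exact J.smul_mem s (show φ a ∈ J from a.2)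
    | add x y hx hy => rw [map_add]; exact add_mem hx hy
  let e : P ≃ₗ[S] J := LinearEquiv.ofInjective f hinj
  haveI : Module.Invertible S J := Module.Invertible.congr e
  let τ : S ⊗[A] I →ₗ[S] J := μ.codRestrict J hμ
  have hτ : Function.Surjective τ := by
    rintro ⟨y, hy⟩
    have h1 : I.map φ ≤ LinearMap.range μ := by
      rw [Ideal.map, Ideal.span_le]
      rintro _ ⟨a, ha, rfl⟩
      exact ⟨1 ⊗ₜ ⟨a, ha⟩, by simp [μ, φ]⟩
    obtain ⟨z, hz⟩ := h1 (hI1.ge hy)
    exact ⟨z, Subtype.ext hz⟩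
  exact ⟨(LinearEquiv.ofBijective τ (Module.Invertible.bijective_of_surjective hτ)).trans e.symm⟩

/-- An invertible module over `A` that becomes free over `S` is free. -/
theorem Corr.free_of_free (C : Corr (algebraMap A S) mA mS) (M : Type u) [AddCommGroup M]
    [Module A M] [Module.Invertible A M] (f : M →ₗ[A] A) (p : M) (hp : f p - 1 ∈ mA)
    (e : S ⊗[A] M ≃ₗ[S] S) : Nonempty (M ≃ₗ[A] A) := by
  let φ := algebraMap A S
  have hinj := injective_of_regular f p (C.regA _ hp)
  let I : Ideal A := LinearMap.range f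
  let fS : S ⊗[A] M →ₗ[S] S := LinearMap.liftBaseChange S ((Algebra.linearMap A S).comp f)
  have hfS : ∀ m, fS (1 ⊗ₜ m) = φ (f m) := fun m => by simp [fS, φ]
  have hrange : ∀ z, fS z = e z * fS (e.symm 1) := fun z => by
    conv_lhs => rw [← e.symm_apply_apply z, ← mul_one (e z), ← smul_eq_mul, map_smul, map_smul]
    rfl
  have hmap : I.map φ = Ideal.span {fS (e.symm 1)} := by
    refine le_antisymm ?_ ?_
    · rw [Ideal.map, Ideal.span_le]
      rintro _ ⟨_, ⟨m, rfl⟩, rfl⟩
      rw [SetLike.mem_coe, ← hfS]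
      exact Ideal.mem_span_singleton'.2 ⟨e (1 ⊗ₜ m), (hrange _).symm⟩
    · rw [Ideal.span_singleton_le_iff_mem]
      generalize e.symm 1 = z
      induction z using TensorProduct.induction_on with
      | zero => simp
      | tmul s m =>
        simp only [fS, LinearMap.liftBaseChange_tmul, LinearMap.comp_apply]
        exact (I.map φ).smul_mem s (Ideal.mem_map_of_mem φ ⟨m, rfl⟩)
      | add x y hx hy => rw [map_add]; exact add_mem hx hy
  have hh : fS (e.symm 1) ∉ mS := fun h => C.max.ne_top ((Ideal.eq_top_iff_one _).2 (by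
    have h1 : φ (f p) ∈ mS := (Ideal.span_singleton_le_iff_mem _).2 h
      (hmap ▸ Ideal.mem_map_of_mem φ ⟨p, rfl⟩)
    have h2 := C.map_le (Ideal.mem_map_of_mem φ hp)
    have h3 := sub_mem h1 h2
    rwa [← map_sub, sub_sub_cancel, map_one] at h3))
  obtain ⟨q, hq, hqe⟩ := C.princ _ hh
  have hI : I = Ideal.span {q} := by
    have h1 : I.map φ = (Ideal.span {q}).map φ := by
      rw [hmap, hqe, Ideal.map_span, Set.image_singleton]
    have h2 : I ⊔ mA = ⊤ := Corr.sup_top hp ⟨p, rfl⟩
    rw [← C.up _ h2, h1, C.up _ (Corr.sup_top hq (Ideal.mem_span_singleton_self q))]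
  have hqinj : Function.Injective (LinearMap.toSpanSingleton A A q) := fun x y hxy =>
    (mul_cancel_right_mem_nonZeroDivisors (C.regA q hq)).1 hxy
  refine ⟨(LinearEquiv.ofInjective f hinj).trans ((LinearEquiv.ofEq _ _ ?_).trans
    (LinearEquiv.ofInjective _ hqinj).symm)⟩
  rw [LinearMap.range_toSpanSingleton]
  exact hI

end Groth.Agent.PicLaurentLib
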