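import Mathlib
import Groth.Agent.PicLaurentLib.Ideal
import Groth.Agent.S15773
import Groth.Agent.ApproxAwayLib.Setups
import Groth.Agent.ApproxAwayLib.Modules

/-!
`Pic R[1/t] → Pic R((t))` is bijective for a henselian local ring `R`.
-/

set_option autoImplicit false
set_option linter.all false
set_option backward.isDefEq.respectTransparency.types false
set_option maxHeartbeats 1000000

universe u

namespace Groth.Agent.PicLaurentLib

open Polynomial IsLocalRing TensorProduct

variable {R : Type u} [CommRing R] [HenselianLocalRing R]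
  {B : Type u} [CommRing B] [Algebra R B] [Algebra R[X] B] [IsScalarTower R R[X] B]

local notation "IX" => Ideal.span ({(X : R[X])} : Set R[X])

theorem coeff_of_sub_one_mem {q : R[X]} (hq : q - 1 ∈ (maximalIdeal R).map (algebraMap R R[X])) :
    IsUnit (q.coeff 0) := by
  rw [Polynomial.algebraMap_eq, Ideal.mem_map_C_iff] at hq
  by_contra hu
  have h0 := sub_mem (show q.coeff 0 ∈ maximalIdeal R from hu) (hq 0)
  rw [coeff_sub, coeff_one_zero, sub_sub_cancel] at h0
  exact (maximalIdeal.isMaximal R).ne_top ((Ideal.eq_top_iff_one _).2 h0)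

theorem corr (hB : Hens2.IsPairHenselization R[X] IX B)
    (ψ : R[X] →ₐ[R] Localization.Away (algebraMap R[X] B X))
    (hψ : ψ X * algebraMap B (Localization.Away (algebraMap R[X] B X)) (algebraMap R[X] B X) = 1) :
    Corr ψ.toRingHom ((maximalIdeal R).map (algebraMap R R[X]))
      ((maximalIdeal R).map (algebraMap R (Localization.Away (algebraMap R[X] B X)))) := by
  let T := algebraMap R[X] B X
  let L := Localization.Away T
  let mA := (maximalIdeal R).map (algebraMap R R[X])
  let mB := (maximalIdeal R).map (algebraMap R B)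
  let mS := (maximalIdeal R).map (algebraMap R L)
  have hψ' : ψ X * algebraMap R[X] L X = 1 := by
    rw [IsScalarTower.algebraMap_apply R[X] B L]; exact hψ
  letI : Invertible (algebraMap R[X] L X) := ⟨ψ X, hψ', by rw [mul_comm]; exact hψ'⟩
  have hTu : IsUnit (algebraMap B L T) := IsLocalization.Away.algebraMap_isUnit T
  have halg : ∀ f : R[X], algebraMap R[X] L f = eval₂ (algebraMap R L) (algebraMap R[X] L X) f := fun f => by
    have h1 := aeval_algebraMap_apply (A := R[X]) (B := L) (X : R[X]) f
    rw [aeval_X_left_apply] at h1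
    rw [← h1, aeval_def]
  have hψe : ∀ f : R[X], ψ f = eval₂ (algebraMap R L) (⅟(algebraMap R[X] L X)) f := fun f => by
    conv_lhs => rw [← aeval_X_left_apply f, ← aeval_algHom_apply, aeval_def]
    rfl
  have hrefl : ∀ (f : R[X]) (N : ℕ), f.natDegree ≤ N →
      ψ (reflect N f) * algebraMap R[X] L X ^ N = algebraMap R[X] L f := fun f N hN => by
    rw [hψe, halg f]
    exact eval₂_reflect_mul_pow (algebraMap R L) _ N f hN
  have hmap : mB.map (algebraMap B L) = mS := by
    rw [Ideal.map_map, ← IsScalarTower.algebraMap_eq]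
  -- `mS` is proper
  have hne : mS ≠ ⊤ := by
    rw [← hmap, Ideal.ne_top_iff_one]
    intro h1
    obtain ⟨⟨⟨b, hb⟩, ⟨_, k, rfl⟩⟩, he⟩ :=
      (IsLocalization.mem_map_algebraMap_iff (Submonoid.powers T) L).1 h1
    rw [one_mul] at he
    obtain ⟨⟨_, j, rfl⟩, he'⟩ := (IsLocalization.eq_iff_exists (Submonoid.powers T) L).1 he
    have h2 : algebraMap R[X] B (X ^ (j + k)) ∈ mB := by
      rw [map_pow, pow_add]
      simp only at he'
      rw [he']
      exact mB.mul_mem_left _ hb
    have h3 : (X : R[X]) ^ (j + k) ∈ (maximalIdeal R).map (C : R →+* R[X]) ⊔ IX ^ (j + k + 1) :=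
      (WeierHensLib.comap_mC_sup hB (j + k + 1)).le (Ideal.mem_sup_left h2)
    have h4 := WeierHensLib.coeff_mem_of_mem h3 (Nat.lt_succ_self (j + k))
    rw [coeff_X_pow, if_pos rfl] at h4
    exact (maximalIdeal.isMaximal R).ne_top ((Ideal.eq_top_iff_one _).2 h4)
  -- elements off `mS`
  have hprinc : ∀ h : L, h ∉ mS → ∃ q : R[X], q - 1 ∈ mA ∧ Ideal.span {h} = Ideal.span {ψ q} := by
    intro h hh
    obtain ⟨⟨b, ⟨_, k, rfl⟩⟩, hb⟩ := IsLocalization.surj (Submonoid.powers T) h
    simp only [map_pow] at hb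
    have hbm : b ∉ mB := fun hbm => hh ((Ideal.mul_unit_mem_iff_mem mS (hTu.pow k)).1 (by
      rw [hb, ← hmap]; exact Ideal.mem_map_of_mem _ hbm))
    obtain ⟨P, u, hP, hPu⟩ := WeierHensLib.exists_dist hB hbm
    refine ⟨reflect P.natDegree P, ?_, ?_⟩
    · show _ ∈ Ideal.map _ _
      rw [Polynomial.algebraMap_eq, Ideal.mem_map_C_iff]
      intro i
      rw [coeff_sub, coeff_reflect, coeff_one]
      rcases eq_or_ne i 0 with rfl | hi
      · rw [revAt_le (Nat.zero_le _), Nat.sub_zero, if_pos rfl, coeff_natDegree, hP.1.leadingCoeff,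
          sub_self]
        exact zero_mem _
      · rw [if_neg hi, sub_zero]
        rcases le_or_gt i P.natDegree with hle | hlt
        · rw [revAt_le hle]
          exact hP.2 _ (by omega)
        · rw [revAt_eq_self_of_lt hlt, coeff_eq_zero_of_natDegree_lt hlt]
          exact zero_mem _
    · have h1 : h * algebraMap B L T ^ k =
          ψ (reflect P.natDegree P) * (algebraMap R[X] L X ^ P.natDegree * algebraMap B L (u : B)) := by
        rw [hb, hPu, map_mul, ← mul_assoc, hrefl P _ le_rfl, IsScalarTower.algebraMap_apply R[X] B L]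
      have h2 : IsUnit (algebraMap R[X] L X ^ P.natDegree * algebraMap B L (u : B)) :=
        ((isUnit_of_invertible _).pow _).mul (u.isUnit.map _)
      calc Ideal.span {h} = Ideal.span {h * algebraMap B L T ^ k} :=
            (Ideal.span_singleton_mul_right_unit (hTu.pow k) h).symm
        _ = _ := by rw [h1, Ideal.span_singleton_mul_right_unit h2]
  have hmle : mA.map ψ.toRingHom ≤ mS := by
    rw [Ideal.map_map, show ψ.toRingHom.comp (algebraMap R R[X]) = algebraMap R L from
      RingHom.ext ψ.commutes]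
  refine ⟨⟨⟨hne, fun K hK => ?_⟩⟩, hmle, fun I hI => ?_, fun J hJ => ?_, hprinc, fun q hq => ?_,
    fun q hq => ?_⟩
  · obtain ⟨h, hhK, hh⟩ := SetLike.exists_of_lt hK
    obtain ⟨q, hq, hqe⟩ := hprinc h hh
    have hqK : ψ q ∈ K := (Ideal.span_singleton_le_iff_mem _).1
      (hqe.ge.trans ((Ideal.span_singleton_le_iff_mem _).2 hhK))
    have h2 := hK.le (hmle (Ideal.mem_map_of_mem _ hq))
    rw [Ideal.eq_top_iff_one]
    have h3 := sub_mem hqK h2
    rwa [show ψ.toRingHom (q - 1) = ψ q - 1 by simp, sub_sub_cancel] at h3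
  · exact ((Groth.Agent.S15773.result R B hB ψ hψ).1 I hI).1
  · exact (Groth.Agent.S15773.result R B hB ψ hψ).2 J hJ
  · exact mem_nonZeroDivisors_of_isUnit_coeff q 0 (coeff_of_sub_one_mem hq)
  · let N := q.natDegree
    let p := reflect N q
    have hpd : p.natDegree ≤ N := natDegree_le_iff_coeff_eq_zero.2 fun i hi => by
      rw [coeff_reflect, revAt_eq_self_of_lt hi, coeff_eq_zero_of_natDegree_lt hi]
    have hpu : IsUnit (p.coeff N) := by
      rw [coeff_reflect, revAt_le le_rfl, Nat.sub_self]; exact coeff_of_sub_one_mem hq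
    have hpreg := mem_nonZeroDivisors_of_isUnit_coeff p N hpu
    have hpB : ∀ z : B, algebraMap R[X] B p * z = 0 → z = 0 := fun z hz => by
      haveI := PairHens.flat_of_isPairHenselization hB
      have h : IsSMulRegular R[X] p := fun a c hac => by
        have h1 : p * a = p * c := hac
        exact (mul_cancel_left_mem_nonZeroDivisors hpreg).1 h1
      apply (TensorProduct.rid R[X] B).symm.injective
      apply IsSMulRegular.lTensor B h
      show p • (TensorProduct.rid R[X] B).symm z = p • (TensorProduct.rid R[X] B).symm 0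
      rw [← map_smul, Algebra.smul_def, hz, map_zero, smul_zero]
    have h1 : ψ q * algebraMap R[X] L X ^ N = algebraMap R[X] L p := by
      rw [← hrefl p N hpd, show reflect N p = q by ext i; simp [p, coeff_reflect]]
    show ψ q ∈ nonZeroDivisors L
    rw [mem_nonZeroDivisors_iff_right]
    intro x hx
    obtain ⟨⟨b, ⟨_, k, rfl⟩⟩, hb⟩ := IsLocalization.surj (Submonoid.powers T) x
    simp only [map_pow] at hb
    have h2 : algebraMap B L (b * algebraMap R[X] B p) = algebraMap B L 0 := by
      rw [map_mul, ← hb, ← IsScalarTower.algebraMap_apply R[X] B L p, ← h1, map_zero,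
        show x * algebraMap B L T ^ k * (ψ q * algebraMap R[X] L X ^ N) =
          (x * ψ q) * (algebraMap B L T ^ k * algebraMap R[X] L X ^ N) by ring, hx, zero_mul]
    obtain ⟨⟨_, j, rfl⟩, h3⟩ := (IsLocalization.eq_iff_exists (Submonoid.powers T) L).1 h2
    simp only [mul_zero] at h3
    have h4 : T ^ j * b = 0 := hpB _ (by linear_combination h3)
    have h5 : algebraMap B L b = 0 :=
      (IsLocalization.map_eq_zero_iff (Submonoid.powers T) L b).2 ⟨⟨_, j, rfl⟩, h4⟩
    rw [h5] at hb
    exact (hTu.pow k).mul_left_eq_zero.1 hb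

/-- Transport along `A → S → T`. -/
theorem pic_of_corr {A S T : Type u} [CommRing A] [CommRing S] [CommRing T] [Algebra S T]
    [Algebra A T] (φ : A →+* S) (hφ : (algebraMap S T).comp φ = algebraMap A T) {mA : Ideal A}
    {mS : Ideal S} (C : Corr φ mA mS)
    (hinj : ∀ (M N : Type u) [AddCommGroup M] [Module S M] [Module.Finite S M] [Module.Projective S M]
      [AddCommGroup N] [Module S N] [Module.Finite S N] [Module.Projective S N],
      Nonempty (T ⊗[S] M ≃ₗ[T] T ⊗[S] N) → Nonempty (M ≃ₗ[S] N))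
    (hsurj : ∀ (N : Type u) [AddCommGroup N] [Module T N] [Module.Finite T N] [Module.Projective T N],
      ∃ (M : Type u) (_ : AddCommGroup M) (_ : Module S M), Module.Finite S M ∧ Module.Projective S M ∧
        Nonempty (T ⊗[S] M ≃ₗ[T] N)) :
    (∀ (M : Type u) [AddCommGroup M] [Module A M] [Module.Invertible A M] (f : M →ₗ[A] A) (p : M),
      f p - 1 ∈ mA → Module.Free T (T ⊗[A] M) → Module.Free A M) ∧
    (∀ (N : Type u) [AddCommGroup N] [Module T N] [Module.Invertible T N],
        ∃ (M : Type u) (_ : AddCommGroup M) (_ : Module A M), Module.Invertible A M ∧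
          Nonempty (N ≃ₗ[T] T ⊗[A] M)) := by
  letI : Algebra A S := φ.toAlgebra
  haveI : IsScalarTower A S T := .of_algebraMap_eq fun x => (RingHom.congr_fun hφ x).symm
  have C' : Corr (algebraMap A S) mA mS := C
  refine ⟨fun M _ _ _ f p hfp hfree => ?_, fun N _ _ _ => ?_⟩
  · haveI := hfree
    obtain ⟨e⟩ := Module.Invertible.free_iff_linearEquiv.1 hfree
    obtain ⟨eS⟩ := hinj (S ⊗[A] M) S
      ⟨AlgebraTensorModule.cancelBaseChange A S T T M ≪≫ₗ e ≪≫ₗ
        (AlgebraTensorModule.rid S T T).symm⟩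
    obtain ⟨eM⟩ := C'.free_of_free M f p hfp eS
    exact Module.Free.of_equiv eM.symm
  · obtain ⟨P, _, _, hPf, hPp, ⟨eP⟩⟩ := hsurj N
    obtain ⟨Q, _, _, hQf, hQp, ⟨eQ⟩⟩ := hsurj (Module.Dual T N)
    obtain ⟨ePQ⟩ := hinj (Q ⊗[S] P) S
      ⟨AlgebraTensorModule.distribBaseChange S T Q P ≪≫ₗ TensorProduct.congr eQ eP ≪≫ₗ
        Module.Invertible.linearEquiv T N ≪≫ₗ (AlgebraTensorModule.rid S T T).symm⟩
    haveI : Module.Invertible S P := Module.Invertible.right ePQ
    obtain ⟨I, hI, ⟨eI⟩⟩ := C'.exists_model P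
    exact ⟨I, inferInstance, inferInstance, hI,
      ⟨eP.symm ≪≫ₗ (eI.baseChange S T _ _).symm ≪≫ₗ
        AlgebraTensorModule.cancelBaseChange A S T T I⟩⟩

/-- `Pic R[s] → Pic R((t))`, `s ↦ t⁻¹`, is bijective. -/
theorem pic_bijective (hB : Hens2.IsPairHenselization R[X] IX B) [Algebra R[X] (LaurentSeries R)]
    (halg : algebraMap R[X] (LaurentSeries R) =
      Polynomial.eval₂RingHom (HahnSeries.C) (HahnSeries.single (-1 : ℤ) (1 : R))) :
    (∀ (M : Type u) [AddCommGroup M] [Module R[X] M] [Module.Invertible R[X] M],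
        Module.Free (LaurentSeries R) (LaurentSeries R ⊗[R[X]] M) → Module.Free R[X] M) ∧
    (∀ (N : Type u) [AddCommGroup N] [Module (LaurentSeries R) N] [Module.Invertible (LaurentSeries R) N],
        ∃ (M : Type u) (_ : AddCommGroup M) (_ : Module R[X] M), Module.Invertible R[X] M ∧
          Nonempty (N ≃ₗ[LaurentSeries R] LaurentSeries R ⊗[R[X]] M)) := by
  classical
  let T := algebraMap R[X] B X
  let L := Localization.Away T
  let LS := LaurentSeries R
  obtain ⟨ψ₀, hψ₀, -⟩ := hB.2 (PowerSeries R) (Ideal.span {(PowerSeries.X : PowerSeries R)})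
    (Polynomial.coeToPowerSeries.ringHom) inferInstance (by rw [Ideal.map_span, Set.image_singleton]; simp)
  let ψP : B →ₐ[R[X]] PowerSeries R :=
    { ψ₀ with commutes' := fun f => (RingHom.congr_fun hψ₀ f).trans (by simp [PowerSeries.algebraMap_apply']) }
  have hu : IsUnit ((HahnSeries.ofPowerSeries ℤ R).comp ψP.toRingHom T) := by
    show IsUnit (HahnSeries.ofPowerSeries ℤ R (ψP (algebraMap R[X] B X)))
    rw [ψP.commutes, show (algebraMap R[X] (PowerSeries R) X) = PowerSeries.X by simp [PowerSeries.algebraMap_apply']]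
    have := IsLocalization.map_units LS (⟨PowerSeries.X, Submonoid.mem_powers _⟩ : Submonoid.powers (PowerSeries.X : PowerSeries R))
    rwa [LaurentSeries.coe_algebraMap] at this
  let gL : L →+* LS := IsLocalization.Away.lift T hu
  have hgL : ∀ b, gL (algebraMap B L b) = HahnSeries.ofPowerSeries ℤ R (ψP b) := fun b =>
    IsLocalization.Away.lift_eq T hu b
  letI algLS : Algebra L LS := gL.toAlgebra
  have S : ApproxAwayLib.Setup T ψP.toRingHom (algebraMap B L)
      ((RingEquiv.refl LS).symm.toRingHom.comp (HahnSeries.ofPowerSeries ℤ R)) (algebraMap L LS) :=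
    ApproxAwayLib.setup_henselian hB ψP gL (RingEquiv.refl _) hgL
  have hH := ApproxAwayLib.henselianRing_span hB
  obtain ⟨w, hw⟩ := (IsLocalization.Away.algebraMap_isUnit T : IsUnit (algebraMap B L T))
  let ψ : R[X] →ₐ[R] L := Polynomial.aeval ((↑w⁻¹ : L))
  have hψ : ψ X * algebraMap B L T = 1 := by
    rw [Polynomial.aeval_X, ← hw, Units.inv_mul]
  have C₀ := corr hB ψ hψ
  have hC : ∀ r : R, gL (algebraMap R L r) = HahnSeries.C r := fun r => by
    rw [IsScalarTower.algebraMap_apply R B L, hgL, IsScalarTower.algebraMap_apply R R[X] B, ψP.commutes]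
    simp [PowerSeries.algebraMap_apply', Polynomial.algebraMap_eq]
  have hgψ : gL.comp ψ.toRingHom = algebraMap R[X] LS := by
    refine Polynomial.ringHom_ext (fun r => ?_) ?_
    · show gL (ψ (C r)) = _
      rw [Polynomial.aeval_C, hC, halg]
      simp
    · show gL (ψ X) = _
      have h1 : gL (ψ X) * gL (algebraMap B L T) = 1 := by rw [← map_mul, hψ, map_one]
      have h2 : gL (algebraMap B L T) = HahnSeries.single (1 : ℤ) (1 : R) := by
        rw [hgL, ψP.commutes, show (algebraMap R[X] (PowerSeries R) X) = PowerSeries.X by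
          simp [PowerSeries.algebraMap_apply']]
        exact HahnSeries.ofPowerSeries_X
      rw [h2] at h1
      rw [halg, Polynomial.coe_eval₂RingHom, Polynomial.eval₂_X]
      calc gL (ψ X) = gL (ψ X) * (HahnSeries.single (1 : ℤ) (1 : R) * HahnSeries.single (-1 : ℤ) (1 : R)) := by
            rw [HahnSeries.single_mul_single]; simp
        _ = _ := by rw [← mul_assoc, h1, one_mul]
  obtain ⟨hinj, hsurj⟩ := pic_of_corr ψ.toRingHom hgψ C₀
    (fun M N _ _ _ _ _ _ _ _ h => ApproxAwayLib.linearEquiv_descend S M N h)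
    (fun N _ _ _ _ => ApproxAwayLib.exists_projective_descend S hH N)
  refine ⟨fun M _ _ _ hfree => ?_, hsurj⟩
  let k := ResidueField R
  let π₀ : R[X] →+* k[X] := Polynomial.mapRingHom (residue R)
  have hπ₀ : Function.Surjective π₀ := Polynomial.map_surjective _ residue_surjective
  letI : Algebra R[X] k[X] := π₀.toAlgebra
  obtain ⟨ek⟩ := Module.Invertible.free_iff_linearEquiv.1 (inferInstance : Module.Free k[X] (k[X] ⊗[R[X]] M))
  let g : M →ₗ[R[X]] k[X] := (ek.toLinearMap.restrictScalars R[X]).comp (TensorProduct.mk R[X] k[X] M 1)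
  obtain ⟨f, hf⟩ := Module.projective_lifting_property (Algebra.linearMap R[X] k[X]) g hπ₀
  obtain ⟨p, hp⟩ := TensorProduct.mk_surjective R[X] M k[X] hπ₀ (ek.symm 1)
  have h1 : π₀ (f p) = 1 := by
    have h := LinearMap.congr_fun hf p
    simp only [g, LinearMap.comp_apply, LinearMap.restrictScalars_apply, LinearEquiv.coe_coe] at h
    rw [hp, LinearEquiv.apply_symm_apply] at h
    exact h
  have hfp : f p - 1 ∈ (maximalIdeal R).map (algebraMap R R[X]) := by
    rw [Polynomial.algebraMap_eq, Ideal.mem_map_C_iff]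
    intro i
    rw [← residue_eq_zero_iff, ← Polynomial.coeff_map,
      show (f p - 1).map (residue R) = π₀ (f p - 1) from rfl, map_sub, h1, map_one, sub_self,
      Polynomial.coeff_zero]
  exact hinj M f p hfp hfree

end Groth.Agent.PicLaurentLib
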